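import Cfsg.Agent.TISmall.SmallModules
import Cfsg.Agent.Char.Constituents

/-!
# Small characters and overgroups of a TI Sylow normalizer

If every coset of `H` other than `H` has trivial stabilizer in the `p`-subgroup `P ≤ H`, a
nontrivial irreducible character of degree less than `|P|` has no fixed vectors under `H`.
-/

set_option autoImplicit false
set_option linter.unusedSectionVars false

namespace CfsgLib.TISmall

open Finset CfsgLib.Char
open scoped ComplexConjugate

variable {G : Type*} [Group G] [Fintype G] {p : ℕ}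

local notation "End₀(" d ")" => Module.End ℂ (Fin d → ℂ)

/-- The sum over `H` acts as zero. -/
theorem sum_subgroup_eq_zero [Fact p.Prime] (P H : Subgroup G) [Fintype P] [Fintype H]
    (hP : IsPGroup p P) (hPH : P ≤ H)
    (hfree : ∀ g : G, g ∉ H → ∀ x ∈ P, g⁻¹ * x * g ∈ H → x = 1) {d : ℕ}
    (ρ : Representation ℂ G (Fin d → ℂ)) (hd : d < Nat.card P) (hG : ∑ g : G, ρ g = 0) :
    ∑ h : H, ρ h = 0 := by
  classical
  let L : MonoidAlgebra ℤ G →+* End₀(d) := (MonoidAlgebra.lift ℤ End₀(d) G ρ).toRingHom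
  let R : Subring End₀(d) := L.range
  have hmem : ∀ g, ρ g ∈ R := fun g =>
    ⟨MonoidAlgebra.single g 1, by
      show MonoidAlgebra.lift ℤ End₀(d) G ρ (MonoidAlgebra.single g 1) = ρ g
      simp⟩
  let u : G →* R :=
    { toFun := fun g => ⟨ρ g, hmem g⟩
      map_one' := Subtype.ext (map_one ρ)
      map_mul' := fun a b => Subtype.ext (map_mul ρ a b) }
  haveI hRfin : Module.Finite ℤ R :=
    Module.Finite.of_surjective L.rangeRestrict.toAddMonoidHom.toIntLinearMap
      L.rangeRestrict_surjective
  haveI : IsAddTorsionFree R := ⟨fun n hn a b h => by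
    have h' : (n : ℂ) • (a : End₀(d)) = (n : ℂ) • (b : End₀(d)) := by
      rw [Nat.cast_smul_eq_nsmul, Nat.cast_smul_eq_nsmul]
      exact congrArg Subtype.val h
    exact Subtype.ext (smul_right_injective _ (by exact_mod_cast hn) h')⟩
  haveI : Module.Free ℤ R := inferInstance
  -- the sum over the group
  let NP : R := ∑ x : P, u x
  let E : R := ∑ h : H, u h
  let X : Set G := {g | g ∉ H}
  let s : Setoid X :=
    { r := fun a b => ∃ x ∈ P, ∃ h ∈ H, x * (a : G) * h = b
      iseqv :=
        { refl := fun a => ⟨1, P.one_mem, 1, H.one_mem, by simp⟩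
          symm := by
            rintro a b ⟨x, hx, h, hh, e⟩
            exact ⟨x⁻¹, P.inv_mem hx, h⁻¹, H.inv_mem hh, by rw [← e]; group⟩
          trans := by
            rintro a b c ⟨x, hx, h, hh, e⟩ ⟨y, hy, k, hk, e'⟩
            exact ⟨y * x, P.mul_mem hy hx, h * k, H.mul_mem hh hk, by rw [← e', ← e]; group⟩ } }
  let F : P × Quotient s × H → X := fun q => ⟨(q.1 : G) * ((q.2.1.out : X) : G) * (q.2.2 : G), by
    intro hm
    apply (q.2.1.out : X).2
    have := H.mul_mem (H.mul_mem (H.inv_mem (hPH q.1.2)) hm) (H.inv_mem q.2.2.2)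
    simpa [mul_assoc] using this⟩
  have hF : Function.Bijective F := by
    constructor
    · rintro ⟨x, c, h⟩ ⟨y, e, k⟩ hq
      have hq' : (x : G) * ((c.out : X) : G) * h = (y : G) * ((e.out : X) : G) * k :=
        congrArg Subtype.val hq
      have hce : c = e := by
        rw [← Quotient.out_eq c, ← Quotient.out_eq e]
        exact Quotient.sound ⟨(y : G)⁻¹ * x, P.mul_mem (P.inv_mem y.2) x.2, h * (k : G)⁻¹,
          H.mul_mem h.2 (H.inv_mem k.2), by
            calc (y : G)⁻¹ * x * ((c.out : X) : G) * ((h : G) * (k : G)⁻¹)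
                = (y : G)⁻¹ * ((x : G) * ((c.out : X) : G) * h) * (k : G)⁻¹ := by group
              _ = _ := by rw [hq']; group⟩
      subst hce
      set g := ((c.out : X) : G)
      have h1 : g⁻¹ * ((y : G)⁻¹ * x) * g = (k : G) * (h : G)⁻¹ := by
        calc g⁻¹ * ((y : G)⁻¹ * x) * g = g⁻¹ * (y : G)⁻¹ * ((x : G) * g * h) * (h : G)⁻¹ := by group
          _ = _ := by rw [hq']; group
      have hx1 : (y : G)⁻¹ * x = 1 := hfree g (c.out : X).2 _ (P.mul_mem (P.inv_mem y.2) x.2)
        (by rw [h1]; exact H.mul_mem k.2 (H.inv_mem h.2))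
      obtain rfl : x = y := Subtype.ext (inv_mul_eq_one.1 hx1).symm
      obtain rfl : h = k := Subtype.ext (mul_left_cancel hq')
      rfl
    · intro g
      obtain ⟨x, hx, h, hh, e⟩ := Quotient.exact (Quotient.out_eq (Quotient.mk s g))
      exact ⟨(⟨x, hx⟩, Quotient.mk s g, ⟨h, hh⟩), Subtype.ext e⟩
  let a : R := -(NP * ∑ c : Quotient s, u (c.out : X))
  have hsplit : ∑ g : G, u g = E + NP * (∑ c : Quotient s, u (c.out : X)) * E := by
    rw [← Fintype.sum_subtype_add_sum_subtype (fun g => g ∈ H) fun g => u g]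
    congr 1
    · convert! Fintype.sum_equiv (Equiv.refl _) _ _ fun _ => rfl
    show ∑ g : X, u g = _
    rw [← Fintype.sum_bijective F hF (fun q => u (F q : G)) (fun g => u g) fun q => rfl,
      Fintype.sum_prod_type]
    simp only [Fintype.sum_prod_type, F, NP, E, Finset.sum_mul, Finset.mul_sum, map_mul]
    rw [Finset.sum_comm]
    simp only [Finset.sum_comm (s := (univ : Finset H))]
  have hfix : a * E = E := by
    have h0 : ∑ g : G, u g = 0 := Subtype.ext (by rw [AddSubmonoidClass.coe_finsetSum]; exact hG)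
    rw [h0] at hsplit
    simp only [a, neg_mul]
    exact (eq_neg_of_add_eq_zero_left hsplit.symm).symm
  -- reduction modulo `p`
  let I : Ideal R := Ideal.span {(p : R)}
  haveI : I.IsTwoSided := ⟨fun {x} b hx => by
    obtain ⟨c, rfl⟩ := Ideal.mem_span_singleton'.1 hx
    exact Ideal.mem_span_singleton'.2 ⟨c * b, by rw [mul_assoc, mul_assoc, Nat.cast_comm]⟩⟩
  haveI : Finite (R ⧸ I) := by
    haveI : Module.Finite ℤ (R ⧸ I) :=
      Module.Finite.of_surjective ((Ideal.Quotient.mk I).toAddMonoidHom.toIntLinearMap)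
        Ideal.Quotient.mk_surjective
    refine Module.finite_of_fg_torsion (R ⧸ I) ?_
    intro x
    refine ⟨⟨(p : ℤ), mem_nonZeroDivisors_of_ne_zero (by exact_mod_cast (Fact.out : p.Prime).ne_zero)⟩, ?_⟩
    obtain ⟨r, rfl⟩ := Ideal.Quotient.mk_surjective x
    show (p : ℤ) • Ideal.Quotient.mk I r = 0
    rw [natCast_zsmul, nsmul_eq_mul, ← map_natCast (Ideal.Quotient.mk I), ← map_mul,
      Ideal.Quotient.eq_zero_iff_mem]
    exact Ideal.mem_span_singleton'.2 ⟨r, Nat.cast_comm p r ▸ rfl⟩
  have hJ : Ideal.Quotient.mk I a ∈ Ideal.jacobson (⊥ : Ideal (R ⧸ I)) := by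
    rw [Ideal.jacobson, Ideal.mem_sInf]
    rintro L ⟨-, hL⟩
    haveI : IsSimpleModule (R ⧸ I) ((R ⧸ I) ⧸ L) :=
      (isSimpleModule_iff_isCoatom (m := L)).2 hL.out
    haveI : Finite ((R ⧸ I) ⧸ L) := Finite.of_surjective _ (Submodule.mkQ_surjective L)
    have hkill := sum_smul_eq_zero (R := R ⧸ I) (S := (R ⧸ I) ⧸ L) (p := p) (fun v => by
        obtain ⟨x, rfl⟩ := Submodule.mkQ_surjective L v
        obtain ⟨r, rfl⟩ := Ideal.Quotient.mk_surjective x
        rw [← map_nsmul, ← map_nsmul, show p • r = r * (p : R) by rw [nsmul_eq_mul, Nat.cast_comm],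
          (Ideal.Quotient.eq_zero_iff_mem).2 (Ideal.mem_span_singleton'.2 ⟨r, rfl⟩), map_zero])
      hP ((Ideal.Quotient.mk I).toMonoidHom.comp (u.comp P.subtype)) (d * d + 1) (Nat.succ_pos _)
      (by
        rw [← Nat.card_eq_fintype_card]
        nlinarith)
      (fun x y => by
        choose x' hx' using fun i => Ideal.Quotient.mk_surjective (I := I) (x i)
        choose y' hy' using fun i => Ideal.Quotient.mk_surjective (I := I) (y i)
        have h := capelli (d * d + 1) (Nat.lt_succ_self _) (fun i => (x' i : End₀(d))) fun i => y' i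
        have h' : ∑ σ : Equiv.Perm (Fin (d * d + 1)),
            Equiv.Perm.sign σ • (List.ofFn fun i => x' (σ i) * y' i).prod = 0 := by
          apply Subtype.ext
          rw [ZeroMemClass.coe_zero, ← h, AddSubmonoidClass.coe_finsetSum]
          refine sum_congr rfl fun σ _ => ?_
          rcases Int.units_eq_one_or (Equiv.Perm.sign σ) with e | e <;>
            simp [e, ← Subring.coe_subtype, map_list_prod, List.map_ofFn, Function.comp_def]
        have h'' := congrArg (Ideal.Quotient.mk I) h'
        rw [map_sum, map_zero] at h''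
        rw [← h'']
        refine sum_congr rfl fun σ _ => ?_
        rcases Int.units_eq_one_or (Equiv.Perm.sign σ) with e | e <;>
          simp [e, map_list_prod, List.map_ofFn, Function.comp_def, hx', hy'])
    rw [← Submodule.Quotient.mk_eq_zero]
    have := hkill (Ideal.Quotient.mk I (∑ c : Quotient s, u (c.out : X)) • Submodule.Quotient.mk 1)
    rw [show Ideal.Quotient.mk I a = -(Ideal.Quotient.mk I NP * Ideal.Quotient.mk I
      (∑ c : Quotient s, u (c.out : X))) by simp only [a, map_neg, map_mul]]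
    rw [smul_smul, ← Submodule.Quotient.mk_smul, smul_eq_mul, mul_one] at this
    rw [Submodule.Quotient.mk_neg, neg_eq_zero]
    simpa [NP] using this
  obtain ⟨N, hN⟩ := IsArtinianRing.isNilpotent_jacobson_bot (R := R ⧸ I)
  have haN : a ^ N ∈ I := by
    rw [← Ideal.Quotient.eq_zero_iff_mem, map_pow]
    have := Ideal.pow_mem_pow hJ N
    rwa [hN] at this
  obtain ⟨c, hc⟩ := Ideal.mem_span_singleton'.1 haN
  have hdiv : ∀ k : ℕ, ∃ e : R, E = (p ^ k : ℕ) • e := by
    intro k
    refine ⟨c ^ k * E, ?_⟩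
    have hk : a ^ (N * k) * E = E := by
      generalize N * k = n
      induction n with
      | zero => rw [pow_zero, one_mul]
      | succ n ih => rw [pow_succ, mul_assoc, hfix, ih]
    calc E = a ^ (N * k) * E := hk.symm
      _ = (c * p) ^ k * E := by rw [pow_mul, hc]
      _ = _ := by rw [(Nat.commute_cast c p).mul_pow, ← Nat.cast_pow, ← Nat.cast_comm, mul_assoc,
          nsmul_eq_mul]
  have hE : E = 0 := by
    let b := Module.Free.chooseBasis ℤ R
    apply b.repr.injective
    ext i
    rw [map_zero, Finsupp.zero_apply]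
    by_contra hne
    obtain ⟨e, he⟩ := hdiv ((b.repr E i).natAbs + 1)
    have hd : ((p ^ ((b.repr E i).natAbs + 1) : ℕ) : ℤ) ∣ b.repr E i := by
      refine ⟨b.repr e i, ?_⟩
      conv_lhs => rw [he, map_nsmul]
      simp
    have hle := Nat.le_of_dvd (Int.natAbs_pos.2 hne) (Int.natCast_dvd.1 hd)
    have := Nat.lt_pow_self (Fact.out : p.Prime).one_lt (n := (b.repr E i).natAbs + 1)
    omega
  have := congrArg Subtype.val hE
  simpa [E, u] using this

/-- A nontrivial irreducible character of degree below `|P|` has no invariants under `H`. -/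
theorem sum_irr_eq_zero [Fact p.Prime] (P H : Subgroup G) [Fintype P] [Fintype H]
    (hP : IsPGroup p P) (hPH : P ≤ H)
    (hfree : ∀ g : G, g ∉ H → ∀ x ∈ P, g⁻¹ * x * g ∈ H → x = 1) {φ : G → ℂ}
    (hφ : Cfsg.IsIrrCharacter G φ) (h1 : φ ≠ fun _ => 1) (hd : (φ 1).re < Nat.card P) :
    ∑ h : H, φ h = 0 := by
  obtain ⟨d, ρ, hirr, rfl⟩ := hφ
  haveI := hirr
  rw [Representation.char_one, Module.finrank_fin_fun, Complex.natCast_re, Nat.cast_lt] at hd
  have hG : ∑ g : G, ρ g = 0 := by
    refine LinearMap.ext fun v => ?_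
    rw [LinearMap.zero_apply]
    by_contra hne
    set v0 := (∑ g : G, ρ g) v with hv0
    have hfix : ∀ g, ρ g v0 = v0 := fun g => by
      rw [hv0, LinearMap.sum_apply, map_sum]
      refine Fintype.sum_equiv (Equiv.mulLeft g) _ _ fun x => ?_
      show ρ g (ρ x v) = ρ (g * x) v
      rw [map_mul]; rfl
    let S : Subrepresentation ρ :=
      ⟨Submodule.span ℂ {v0}, fun g w hw => by
        obtain ⟨c, rfl⟩ := Submodule.mem_span_singleton.1 hw
        rw [map_smul, hfix g]
        exact Submodule.smul_mem _ c (Submodule.mem_span_singleton_self v0)⟩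
    have hS : S = ⊤ := (eq_bot_or_eq_top S).resolve_left fun h => hne (by
      have := congrArg Subrepresentation.toSubmodule h
      exact Submodule.span_singleton_eq_bot.1 this)
    have hall : ∀ g w, ρ g w = w := fun g w => by
      have : w ∈ Submodule.span ℂ {v0} := by
        have := congrArg Subrepresentation.toSubmodule hS
        change Submodule.span ℂ {v0} = ⊤ at this
        rw [this]; trivial
      obtain ⟨c, rfl⟩ := Submodule.mem_span_singleton.1 this
      rw [map_smul, hfix g]
    have hd1 : d = 1 := by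
      have h := finrank_span_singleton (K := ℂ) hne
      rw [show Submodule.span ℂ {v0} = (⊤ : Submodule ℂ (Fin d → ℂ)) from
        congrArg Subrepresentation.toSubmodule hS, finrank_top, Module.finrank_fin_fun] at h
      exact h
    apply h1
    funext g
    show ρ.character g = 1
    rw [Representation.character, show ρ g = LinearMap.id from LinearMap.ext (hall g),
      LinearMap.trace_id, Module.finrank_fin_fun, hd1, Nat.cast_one]
  have h := congrArg (LinearMap.trace ℂ (Fin d → ℂ))
    (sum_subgroup_eq_zero P H hP hPH hfree ρ hd hG)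
  rw [map_sum, map_zero] at h
  exact h

/-- Inner products with the trivial character agree for characters of degree at most `|P|`
containing it, and for those of smaller degree. -/
theorem classInner_one_eq [Fact p.Prime] (P H : Subgroup G) [Fintype P] [Fintype H]
    (hP : IsPGroup p P) (hPH : P ≤ H)
    (hfree : ∀ g : G, g ∉ H → ∀ x ∈ P, g⁻¹ * x * g ∈ H → x = 1) {θ : G → ℂ}
    (hθ : Cfsg.IsCharacter G θ) (hd : (θ 1).re < Nat.card P) :
    Cfsg.classInner (fun h : H => θ h) (fun _ => 1) = Cfsg.classInner θ fun _ => 1 := by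
  revert hd
  refine IsCharacter.induction_irr (P := fun θ => Cfsg.IsCharacter G θ ∧ ((θ 1).re < Nat.card P →
      Cfsg.classInner (fun h : H => θ h) (fun _ => 1) = Cfsg.classInner θ fun _ => 1))
    ⟨isCharacter_zero, fun _ => by simp [Cfsg.classInner]⟩ ?_ ?_ hθ |>.2
  · rintro χ ψ ⟨hχ, iχ⟩ ⟨hψ, iψ⟩
    refine ⟨IsCharacter.add hχ hψ, fun hd => ?_⟩
    obtain ⟨a, ha⟩ := IsCharacter.exists_degree hχ
    obtain ⟨b, hb⟩ := IsCharacter.exists_degree hψ
    simp only [Pi.add_apply, ha, hb, Complex.add_re, Complex.natCast_re] at hd iχ iψ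
    have h1 := iχ (by linarith [(Nat.cast_nonneg b : (0 : ℝ) ≤ b)])
    have h2 := iψ (by linarith [(Nat.cast_nonneg a : (0 : ℝ) ≤ a)])
    simp only [Cfsg.classInner, map_one, mul_one, Pi.add_apply, sum_add_distrib, mul_add] at *
    rw [h1, h2]
  · intro φ hφ
    refine ⟨IsIrrCharacter.isCharacter hφ, fun hd => ?_⟩
    by_cases h1 : φ = fun _ => 1
    · subst h1
      simp [Cfsg.classInner]
    · have hH := sum_irr_eq_zero P H hP hPH hfree hφ h1 hd
      have hG : ∑ g : G, φ g = 0 := by
        haveI : Fintype (⊤ : Subgroup G) := Fintype.ofFinite _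
        have h := sum_irr_eq_zero P (⊤ : Subgroup G) hP le_top
          (fun g hg => absurd (Subgroup.mem_top g) hg) hφ h1 hd
        rw [← h]
        exact (Fintype.sum_equiv Subgroup.topEquiv.toEquiv _ _ fun _ => rfl).symm
      simp only [Cfsg.classInner, map_one, mul_one, hH, hG, mul_zero]

end CfsgLib.TISmall
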