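import Cfsg.Prelude.Def_Characters
import Mathlib

/-!
# Finite rings of linear maps of small dimension and `p`-groups inside them

If `R` is a ring of linear maps of a space of dimension `d` and a `p`-group `P` maps into `R`,
where `d < |P|`, then the sum over `P` is nilpotent modulo `p`, together with all its multiples.
-/

set_option autoImplicit false
set_option linter.unusedSectionVars false

namespace CfsgLib.TISmall

open Finset

variable {d : ℕ}

local notation "End₀" => Module.End ℂ (Fin d → ℂ)

/-- More than `d ^ 2` endomorphisms satisfy the alternating identity. -/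
theorem capelli (m : ℕ) (hm : d * d < m) (x y : Fin m → End₀) :
    ∑ σ : Equiv.Perm (Fin m),
      Equiv.Perm.sign σ • (List.ofFn fun i => x (σ i) * y i).prod = 0 := by
  let f : MultilinearMap ℂ (fun _ : Fin m => End₀) End₀ :=
    (MultilinearMap.mkPiAlgebraFin ℂ m End₀).compLinearMap fun i => LinearMap.mulRight ℂ (y i)
  have h : ¬ LinearIndependent ℂ x := fun hx => by
    have := hx.fintype_card_le_finrank
    rw [Fintype.card_fin, Module.finrank_linearMap, Module.finrank_fin_fun] at this
    omega
  have h0 := (MultilinearMap.alternatization f).map_linearDependent x h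
  rw [MultilinearMap.alternatization_apply] at h0
  simpa [f, MultilinearMap.domDomCongr_apply] using h0

variable {R : Type*} [Ring R] {S : Type*} [AddCommGroup S] [Module R S] {ι : Type*}
  [DecidableEq ι] (w : ι → S)

/-- Products of matrix units applied to a vector. -/
theorem units_apply (r : ι × ι → R) (hr : ∀ q j, r q • w j = if j = q.2 then w q.1 else 0) :
    ∀ (m : ℕ) (t s : Fin m → ι × ι) (A : Fin (m + 1) → ι) (b : ι),
      (∀ i, A i.castSucc = (t i).1) →
      r (b, A 0) • (List.ofFn fun i => r (s i) * r ((t i).2, A i.succ)).prod • w (A (Fin.last m)) =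
        if s = t then w b else 0 := by
  intro m
  induction m with
  | zero =>
    intro t s A b _
    rw [if_pos (Subsingleton.elim s t), List.ofFn_zero, List.prod_nil, one_smul, hr]
    exact if_pos rfl
  | succ m IH =>
    intro t s A b hA
    rw [List.ofFn_succ, List.prod_cons, mul_smul, mul_smul]
    have h := IH (fun i : Fin m => t i.succ) (fun i : Fin m => s i.succ) (fun i : Fin (m + 1) => A i.succ) (t 0).2
      (fun i => by rw [← hA i.succ, Fin.succ_castSucc])
    simp only [Fin.succ_last] at h
    rw [h]
    by_cases htail : (fun i : Fin m => s i.succ) = fun i : Fin m => t i.succ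
    · rw [if_pos htail, hr]
      by_cases h2 : (t 0).2 = (s 0).2
      · rw [if_pos h2, hr]
        have hA0 : A 0 = (t 0).1 := hA 0
        by_cases h1 : (s 0).1 = A 0
        · rw [if_pos h1, if_pos]
          exact funext fun i => by
            induction i using Fin.cases with
            | zero => exact Prod.ext (h1.trans hA0) h2.symm
            | succ i => exact congrFun htail i
        · rw [if_neg h1, if_neg]
          rintro rfl
          exact h1 hA0.symm
      · rw [if_neg h2, smul_zero, if_neg]
        rintro rfl
        exact h2 rfl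
    · rw [if_neg htail, smul_zero, smul_zero, if_neg]
      exact fun e => htail (funext fun i => congrFun e i.succ)

variable (R)

/-- A simple module of a ring satisfying the identity is annihilated by the group sum. -/
theorem sum_smul_eq_zero {p : ℕ} [Fact p.Prime] [IsSimpleModule R S] [Finite S]
    (hp : ∀ v : S, p • v = 0) {P : Type*} [Group P] [Fintype P] (hP : IsPGroup p P)
    (u : P →* R) (m : ℕ) (hm : 0 < m) (hmP : m ≤ Fintype.card P * Fintype.card P)
    (hcap : ∀ x y : Fin m → R, ∑ σ : Equiv.Perm (Fin m),
      Equiv.Perm.sign σ • (List.ofFn fun i => x (σ i) * y i).prod = 0) (v : S) :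
    (∑ g, u g) • v = 0 := by
  classical
  by_contra hne
  let D := Module.End R S
  let w : P → S := fun g => u g • v
  have hmove : ∀ (g : P) (c : P → D), ∑ h, c (g⁻¹ * h) • w h = u g • ∑ h, c h • w h := fun g c => by
    rw [smul_sum]
    refine (Fintype.sum_equiv (Equiv.mulLeft g) _ _ fun h => ?_).symm
    show u g • c h • w h = c (g⁻¹ * (g * h)) • u (g * h) • v
    rw [inv_mul_cancel_left, map_mul, mul_smul]
    exact (map_smul (c h) (u g) (w h)).symm
  have hind : LinearIndependent D w := by
    rw [Fintype.linearIndependent_iff]
    by_contra hK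
    push Not at hK
    obtain ⟨c, hc, i, hi⟩ := hK
    let K : AddSubgroup (P → D) :=
      { carrier := {c | ∑ h, c h • w h = 0}
        zero_mem' := by simp
        add_mem' := fun {a b} ha hb => by
          simp only [Set.mem_setOf_eq, Pi.add_apply, add_smul, sum_add_distrib] at *
          rw [ha, hb, add_zero]
        neg_mem' := fun {a} ha => by simpa [neg_smul, sum_neg_distrib] using ha }
    haveI : Finite D := Finite.of_injective (fun f : D => (f : S → S)) DFunLike.coe_injective
    letI : MulAction P K :=
      { smul := fun g c => ⟨fun h => (c : P → D) (g⁻¹ * h), by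
          show ∑ h, (c : P → D) (g⁻¹ * h) • w h = 0
          rw [hmove, show ∑ h, (c : P → D) h • w h = 0 from c.2, smul_zero]⟩
        one_smul := fun c => Subtype.ext (funext fun h => by
          show (c : P → D) (1⁻¹ * h) = _
          rw [inv_one, one_mul])
        mul_smul := fun a b c => Subtype.ext (funext fun h => by
          show (c : P → D) ((a * b)⁻¹ * h) = (c : P → D) (b⁻¹ * (a⁻¹ * h))
          rw [_root_.mul_inv_rev, mul_assoc]) }
    have hcard : p ∣ Nat.card K := by
      have h0 : (⟨c, hc⟩ : K) ≠ 0 := fun e => hi (congrFun (congrArg Subtype.val e) i)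
      have hord : addOrderOf (⟨c, hc⟩ : K) = p := addOrderOf_eq_prime
        (Subtype.ext (funext fun h => LinearMap.ext fun s => hp _)) h0
      rw [← hord]
      exact addOrderOf_dvd_natCard _
    have hzero : (0 : K) ∈ MulAction.fixedPoints P K := fun g => Subtype.ext rfl
    obtain ⟨e, he, he0⟩ := hP.exists_fixed_point_of_prime_dvd_card_of_fixed_point K hcard hzero
    have hconst : ∀ h : P, (e : P → D) h = (e : P → D) 1 := fun h => by
      have h1 := congrFun (congrArg Subtype.val (he h⁻¹)) 1
      change (e : P → D) (h⁻¹⁻¹ * 1) = (e : P → D) 1 at h1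
      rwa [inv_inv, mul_one] at h1
    have h1 : (e : P → D) 1 • ((∑ g, u g) • v) = 0 := by
      rw [sum_smul, smul_sum]
      refine Eq.trans (sum_congr rfl fun h _ => ?_) e.2
      rw [hconst h]
    rcases smul_eq_zero.1 h1 with h2 | h2
    · exact he0 (Subtype.ext (funext fun h => (hconst h).trans h2).symm)
    · exact hne h2
  have hb := hind.linearIndepOn_id
  let B := Module.Basis.extend hb
  have hex : ∀ q : P × P, ∃ r : R, ∀ j, r • w j = if j = q.2 then w q.1 else 0 := by
    intro q
    let f : Module.End D S := B.constr ℕ fun x => if (x : S) = w q.2 then w q.1 else 0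
    obtain ⟨r, hr⟩ := jacobson_density (R := R) f (Finset.univ.image w)
    refine ⟨r, fun j => ?_⟩
    rw [← hr _ (Finset.mem_image_of_mem _ (mem_univ j))]
    have hj : w j = B ⟨w j, hb.subset_extend _ (Set.mem_range_self j)⟩ :=
      (Module.Basis.extend_apply_self hb ⟨w j, hb.subset_extend _ (Set.mem_range_self j)⟩).symm
    conv_lhs => rw [hj]
    rw [Module.Basis.constr_basis]
    simp only [hind.injective.eq_iff]
  choose r hr using hex
  obtain ⟨t⟩ : Nonempty (Fin m ↪ P × P) :=
    Function.Embedding.nonempty_of_card_le (by rw [Fintype.card_fin, Fintype.card_prod]; exact hmP)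
  let A : Fin (m + 1) → P := Fin.snoc (fun i => (t i).1) 1
  have hA : ∀ i : Fin m, A i.castSucc = (t i).1 := fun i => Fin.snoc_castSucc _ _ _
  have h0 := congrArg (fun z : R => r (1, A 0) • z • w (A (Fin.last m)))
    (hcap (fun i => r (t i)) fun i => r ((t i).2, A i.succ))
  simp only [sum_smul, smul_sum, zero_smul, smul_zero] at h0
  have hterm : ∀ σ : Equiv.Perm (Fin m), r (1, A 0) •
      (Equiv.Perm.sign σ • (List.ofFn fun i => r (t (σ i)) * r ((t i).2, A i.succ)).prod) •
        w (A (Fin.last m)) = if σ = 1 then w 1 else 0 := by
    intro σ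
    have h := units_apply (R := R) w r hr m t (fun i => t (σ i)) A 1 hA
    rw [smul_assoc, smul_comm, h]
    by_cases hσ : σ = 1
    · subst hσ; simp
    · rw [if_neg hσ, if_neg, smul_zero]
      exact fun e => hσ (Equiv.ext fun i => t.injective (congrFun e i))
  simp only [hterm, sum_ite_eq', mem_univ, if_true] at h0
  exact hind.ne_zero 1 h0

end CfsgLib.TISmall
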